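import Mathlib

/-! Galois descent for linear actions on rational function fields. -/

set_option autoImplicit false

universe u v w

open MvPolynomial

namespace Groth.Agent.InvFld84

variable {k : Type u} {L : Type v} [Field k] [Field L] [Algebra k L]
variable {G : Type w} [Group G] [Finite G] (φ : G →* (L ≃ₐ[k] L)) (K : IntermediateField k L)
  (hK : ∀ g, ∀ x ∈ K, φ g x ∈ K)

/-- Restriction of an automorphism to a stable field. -/
noncomputable def gK (g : G) : K →+* K where
  toFun x := ⟨φ g x, hK g x x.2⟩
  map_zero' := Subtype.ext (map_zero _)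
  map_one' := Subtype.ext (map_one _)
  map_add' a b := Subtype.ext (map_add _ _ _)
  map_mul' a b := Subtype.ext (map_mul _ _ _)

omit [Finite G] in
theorem aeval_map_gK {m : ℕ} (t : Fin m → L) (ht : ∀ g i, φ g (t i) = t i) (g : G)
    (P : MvPolynomial (Fin m) K) : φ g (aeval t P) = aeval t (map (gK φ K hK g) P) := by
  induction P using MvPolynomial.induction_on with
  | C a => rw [map_C, aeval_C, aeval_C]; rfl
  | add a b ha hb => simp only [map_add, ha, hb]
  | mul_X a i ha => simp only [map_mul, map_X, aeval_X, ha, ht]

/-- Descent. -/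
theorem exists_descent (hfaith : ∀ g, (∀ x ∈ K, φ g x = x) → g = 1) {m : ℕ} (y : Fin m → L)
    (hy : AlgebraicIndependent K y) (hgen : IntermediateField.adjoin K (Set.range y) = ⊤)
    (hlin : ∀ g j, φ g (y j) ∈ Submodule.span K (Set.range y)) (hKstab : ∀ g, ∀ x ∈ K, φ g x ∈ K) :
    ∃ t : Fin m → L,
      AlgebraicIndependent ↥(K ⊓ IntermediateField.fixedField φ.range) t ∧
      IntermediateField.restrictScalars k
          (IntermediateField.adjoin ↥(K ⊓ IntermediateField.fixedField φ.range) (Set.range t)) =
        IntermediateField.fixedField φ.range := by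
  classical
  have := Fintype.ofFinite G
  set F := K ⊓ IntermediateField.fixedField φ.range
  set M := Submodule.span K (Set.range y) with hM
  have hfix : ∀ z : L, z ∈ IntermediateField.fixedField φ.range ↔ ∀ g, φ g z = z := fun z => by
    rw [IntermediateField.mem_fixedField_iff]
    exact ⟨fun h g => h _ ⟨g, rfl⟩, by rintro h _ ⟨g, rfl⟩; exact h g⟩
  have hMstab : ∀ g, ∀ z ∈ M, φ g z ∈ M := by
    intro g z hz
    induction hz using Submodule.span_induction with
    | mem z hz => obtain ⟨j, rfl⟩ := hz; exact hlin g j
    | zero => rw [map_zero]; exact zero_mem _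
    | add a b _ _ ha hb => rw [map_add]; exact add_mem ha hb
    | smul c a _ ha =>
      rw [Algebra.smul_def, map_mul]
      have : φ g (algebraMap K L c) * φ g a = (⟨φ g c, hKstab g c c.2⟩ : K) • φ g a := by
        rw [Algebra.smul_def]; rfl
      rw [this]
      exact Submodule.smul_mem _ _ ha
  let S : Set L := {z | z ∈ M ∧ ∀ g, φ g z = z}
  have hspan : Submodule.span K S = M := by
    refine le_antisymm (Submodule.span_le.2 fun z hz => hz.1) (Submodule.span_le.2 ?_)
    rintro _ ⟨j, rfl⟩
    by_contra hj
    obtain ⟨f, hfj, hfS⟩ := Submodule.exists_dual_map_eq_bot_of_notMem hj inferInstance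
    let ψ : G → (K →* L) := fun g => ((φ g).toAlgHom.toRingHom.comp (algebraMap K L)).toMonoidHom
    have hψ : Function.Injective ψ := by
      intro g h hgh
      have : g⁻¹ * h = 1 := hfaith _ fun x hx => by
        rw [map_mul, map_inv]
        show (φ g)⁻¹ (φ h x) = x
        rw [show φ h x = φ g x from (DFunLike.congr_fun hgh ⟨x, hx⟩).symm]
        exact (φ g).symm_apply_apply x
      exact inv_mul_eq_one.1 this
    have hlc := (linearIndependent_monoidHom K L).comp ψ hψ
    have h0 : ∑ g : G, ((f (φ g (y j)) : K) : L) • (⇑(ψ g) : K → L) = 0 := by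
      funext c
      let z : L := ∑ g : G, φ g ((c : L) * y j)
      have hz : z ∈ S := by
        refine ⟨sum_mem fun g _ => ?_, fun h => ?_⟩
        · refine hMstab g _ ?_
          exact M.smul_mem c (Submodule.subset_span ⟨j, rfl⟩)
        · simp only [z, map_sum]
          exact Fintype.sum_equiv (Equiv.mulLeft h) _ _ fun g => by
            rw [Equiv.coe_mulLeft, map_mul φ]; rfl
      have hfz : f z = 0 := by
        have : f z ∈ Submodule.map f (Submodule.span K S) := ⟨z, Submodule.subset_span hz, rfl⟩
        rwa [hfS, Submodule.mem_bot] at this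
      have hz' : z = ∑ g : G, (⟨φ g c, hKstab g c c.2⟩ : K) • φ g (y j) := by
        refine Finset.sum_congr rfl fun g _ => ?_
        rw [map_mul, Algebra.smul_def]; rfl
      rw [hz', map_sum] at hfz
      simp only [map_smul, smul_eq_mul] at hfz
      have := congrArg (fun x : K => (x : L)) hfz
      simp only [IntermediateField.coe_sum, MulMemClass.coe_mul, ZeroMemClass.coe_zero] at this
      simp only [Finset.sum_apply, Pi.smul_apply, smul_eq_mul, Pi.zero_apply]
      rw [← this]
      exact Finset.sum_congr rfl fun g _ => mul_comm _ _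
    have := Fintype.linearIndependent_iff.1 hlc _ h0 1
    rw [map_one] at this
    exact hfj (Subtype.ext this)
  obtain ⟨b, hbS, hbspan, hbli⟩ := exists_linearIndependent K S
  rw [hspan] at hbspan
  have hbM : Module.finrank K M = m := by
    rw [hM, finrank_span_eq_card hy.linearIndependent, Fintype.card_fin]
  have hMfin : Module.Finite K M := Module.Finite.span_of_finite K (Set.finite_range y)
  have hbfin : b.Finite := by
    have : Module.Finite K (Submodule.span K b) := by rw [hbspan]; exact hMfin
    have : Module.Finite K (Submodule.span K (Set.range (Subtype.val : b → L))) := by rw [Subtype.range_coe]; assumption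
    exact (linearIndependent_span hbli).finite
  have := hbfin.fintype
  have hcard : Fintype.card b = m := by
    rw [← hbM, ← hbspan]
    have := finrank_span_eq_card hbli
    rw [Subtype.range_coe] at this
    exact this.symm
  let t : Fin m → L := fun i => ((Fintype.equivFinOfCardEq hcard).symm i : b)
  have ht : ∀ g i, φ g (t i) = t i := fun g i => (hbS ((Fintype.equivFinOfCardEq hcard).symm i).2).2 g
  have htspan : Submodule.span K (Set.range t) = M := by
    rw [← hbspan]; congr 1
    exact ((Fintype.equivFinOfCardEq hcard).symm.surjective.range_comp _).trans Subtype.range_coe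
  -- substitution of the two bases
  have hmem : ∀ i, t i ∈ M := fun i => htspan ▸ Submodule.subset_span ⟨i, rfl⟩
  have hmem' : ∀ j, y j ∈ Submodule.span K (Set.range t) := fun j => by
    rw [htspan]; exact Submodule.subset_span ⟨j, rfl⟩
  choose A hA using fun i => (Submodule.mem_span_range_iff_exists_fun K).1 (hmem i)
  choose B hB using fun j => (Submodule.mem_span_range_iff_exists_fun K).1 (hmem' j)
  let ψ1 : MvPolynomial (Fin m) K →ₐ[K] MvPolynomial (Fin m) K := aeval fun i => ∑ j, C (A i j) * X j
  let ψ2 : MvPolynomial (Fin m) K →ₐ[K] MvPolynomial (Fin m) K := aeval fun j => ∑ i, C (B j i) * X i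
  have e1 : ∀ P, aeval y (ψ1 P) = aeval t P := fun P => by
    refine DFunLike.congr_fun (show (aeval y).comp ψ1 = aeval t from algHom_ext fun i => ?_) P
    simp [ψ1, ← hA i, Algebra.smul_def]
  have e2 : ∀ P, aeval t (ψ2 P) = aeval y P := fun P => by
    refine DFunLike.congr_fun (show (aeval t).comp ψ2 = aeval y from algHom_ext fun i => ?_) P
    simp [ψ2, ← hB i, Algebra.smul_def]
  have htli : LinearIndependent K t := hbli.comp _ (Fintype.equivFinOfCardEq hcard).symm.injective
  have h21 : ψ2.comp ψ1 = AlgHom.id K _ := by
    refine algHom_ext fun i => ?_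
    have h0 : ∀ c : Fin m → K, aeval t (∑ l, C (c l) * X l) = ∑ l, c l • t l := fun c => by
      simp [Algebra.smul_def]
    have hlin2 : ψ2 (ψ1 (X i)) = ∑ l, C (∑ j, A i j * B j l) * X l := by
      simp only [ψ1, ψ2, aeval_X, map_sum, map_mul, aeval_C, Finset.mul_sum, Finset.sum_mul,
        MvPolynomial.algebraMap_eq]
      rw [Finset.sum_comm]
      exact Finset.sum_congr rfl fun l _ => Finset.sum_congr rfl fun j _ => by ring
    have hv : aeval t (ψ2 (ψ1 (X i))) = t i := by rw [e2, e1, aeval_X]
    rw [hlin2, h0] at hv
    have hv' : ∑ l, (∑ j, A i j * B j l) • t l = ∑ l, (if l = i then (1 : K) else 0) • t l := by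
      rw [hv]; simp [ite_smul]
    have hd : ∀ l, (∑ j, A i j * B j l) = if l = i then (1 : K) else 0 := fun l =>
      sub_eq_zero.1 (Fintype.linearIndependent_iff.1 htli (fun l => (∑ j, A i j * B j l) - if l = i then (1 : K) else 0)
        (by simp only [sub_smul, Finset.sum_sub_distrib, hv', sub_self]) l)
    rw [AlgHom.comp_apply, hlin2, AlgHom.id_apply]
    simp [hd]
  have hti : AlgebraicIndependent K t := by
    intro P Q hPQ
    rw [← e1, ← e1] at hPQ
    have := congrArg ψ2 (hy hPQ)
    rwa [← AlgHom.comp_apply, ← AlgHom.comp_apply, h21, AlgHom.id_apply, AlgHom.id_apply] at this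
  have hgen' : IntermediateField.adjoin K (Set.range t) = ⊤ := by
    rw [eq_top_iff, ← hgen, IntermediateField.adjoin_le_iff]
    rintro _ ⟨j, rfl⟩
    rw [← hB j]
    exact sum_mem fun i _ => IntermediateField.smul_mem _ (IntermediateField.subset_adjoin K (Set.range t) ⟨i, rfl⟩)
  let := (IntermediateField.inclusion (inf_le_left : F ≤ K)).toRingHom.toAlgebra
  have hinj : Function.Injective (IntermediateField.inclusion (inf_le_left : F ≤ K)).toRingHom :=
    RingHom.injective _
  have hFtower : IsScalarTower F K L := IsScalarTower.of_algebraMap_eq fun _ => rfl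
  refine ⟨t, hti.restrictScalars hinj, le_antisymm ?_ ?_⟩
  · intro z hz
    rw [IntermediateField.mem_restrictScalars] at hz
    induction hz using IntermediateField.adjoin_induction with
    | mem z hz => obtain ⟨i, rfl⟩ := hz; exact (hfix _).2 fun g => ht g i
    | algebraMap c => exact c.2.2
    | add a b _ _ ha hb => exact add_mem ha hb
    | inv a _ ha => exact inv_mem ha
    | mul a b _ _ ha hb => exact mul_mem ha hb
  · intro z hz
    rw [hfix] at hz
    have hinv : ∀ P : MvPolynomial (Fin m) K, (∀ g, φ g (aeval t P) = aeval t P) →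
        aeval t P ∈ IntermediateField.adjoin F (Set.range t) := by
      intro P hP
      have hc : ∀ d g, φ g ((P.coeff d : K) : L) = ((P.coeff d : K) : L) := fun d g => by
        have h := hP g
        rw [aeval_map_gK φ K hKstab t ht] at h
        have := congrArg (fun Q : MvPolynomial (Fin m) K => ((Q.coeff d : K) : L)) (hti h)
        simp only [coeff_map] at this
        exact this
      rw [P.as_sum, map_sum]
      refine sum_mem fun d _ => ?_
      rw [aeval_monomial]
      refine mul_mem ?_ ?_
      · exact IntermediateField.algebraMap_mem _ (⟨((P.coeff d : K) : L), (P.coeff d : K).2, (hfix _).2 (hc d)⟩ : F)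
      · exact prod_mem fun i _ => pow_mem (IntermediateField.subset_adjoin F (Set.range t) ⟨i, rfl⟩) _
    obtain ⟨r, s, hrs⟩ := (IntermediateField.mem_adjoin_range_iff (F := K) t z).1 (by rw [hgen']; trivial)
    rw [IntermediateField.mem_restrictScalars]
    by_cases hs0 : aeval t s = 0
    · rw [hrs, hs0, div_zero]; exact zero_mem _
    let Q : MvPolynomial (Fin m) K := ∏ g : G, map (gK φ K hKstab g) s
    let R : MvPolynomial (Fin m) K := r * ∏ g ∈ Finset.univ.erase (1 : G), map (gK φ K hKstab g) s
    have hg1 : map (gK φ K hKstab 1) s = s := by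
      have : gK φ K hKstab 1 = RingHom.id K := RingHom.ext fun x => Subtype.ext (by
        show φ 1 (x : L) = x
        rw [map_one]; rfl)
      rw [this, map_id]
    have hQ : aeval t Q = ∏ g : G, φ g (aeval t s) := by
      rw [map_prod]
      exact Finset.prod_congr rfl fun g _ => (aeval_map_gK φ K hKstab t ht g s).symm
    have hQinv : ∀ g, φ g (aeval t Q) = aeval t Q := fun h => by
      rw [hQ, map_prod]
      exact Fintype.prod_equiv (Equiv.mulLeft h) _ _ fun g => by rw [Equiv.coe_mulLeft, map_mul φ]; rfl
    have hQ0 : aeval t Q ≠ 0 := by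
      rw [hQ, Finset.prod_ne_zero_iff]
      exact fun g _ => by simpa using hs0
    have hR : aeval t R = z * aeval t Q := by
      simp only [R, Q, map_mul]
      rw [← Finset.mul_prod_erase Finset.univ _ (Finset.mem_univ (1 : G)), hg1, map_mul, hrs, ← mul_assoc,
        div_mul_cancel₀ _ hs0]
    have hRinv : ∀ g, φ g (aeval t R) = aeval t R := fun g => by rw [hR, map_mul, hz g, hQinv g]
    rw [show z = aeval t R / aeval t Q by rw [hR, mul_div_cancel_right₀ _ hQ0]]
    exact div_mem (hinv R hRinv) (hinv Q hQinv)

end Groth.Agent.InvFld84
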