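import Groth.Prelude.Def_W4c2brnrinvarInvFld
import Groth.Agent.InvFld84.Descent

/-! Linear actions on rational function fields. -/

set_option autoImplicit false

universe u v w

open MvPolynomial
open scoped IntermediateField.algebraAdjoinAdjoin

namespace Groth.Agent.InvFld84

theorem algebraicIndependent_over_adjoin {k : Type u} {L : Type v} [Field k] [Field L] [Algebra k L]
    {ι ι' : Type*} {x : ι → L} {y : ι' → L} (h : AlgebraicIndependent k (Sum.elim y x)) :
    AlgebraicIndependent (IntermediateField.adjoin k (Set.range x)) y := by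
  have h2 := (AlgebraicIndependent.sumElim_iff.1 h).2
  have : Algebra.IsAlgebraic (Algebra.adjoin k (Set.range x)) (IntermediateField.adjoin k (Set.range x)) :=
    IsLocalization.isAlgebraic _ (nonZeroDivisors _)
  exact h2.extendScalars (S := IntermediateField.adjoin k (Set.range x))

section fld

variable (k : Type u) [Field k]

theorem algebraicIndependent_X (σ : Type v) : AlgebraicIndependent k (InvFld.X : σ → InvFld.Fld σ k) := by
  have h := (MvPolynomial.algebraicIndependent_X σ k).map'
    (f := IsScalarTower.toAlgHom k (MvPolynomial σ k) (InvFld.Fld σ k)) (IsFractionRing.injective _ _)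
  exact h

theorem adjoin_X (σ : Type v) : IntermediateField.adjoin k (Set.range (InvFld.X : σ → InvFld.Fld σ k)) = ⊤ := by
  rw [eq_top_iff]
  rintro z -
  obtain ⟨a, b, -, rfl⟩ := IsFractionRing.div_surjective (MvPolynomial σ k) z
  have key : ∀ a : MvPolynomial σ k, algebraMap (MvPolynomial σ k) (InvFld.Fld σ k) a ∈
      IntermediateField.adjoin k (Set.range (InvFld.X : σ → InvFld.Fld σ k)) := fun a => by
    induction a using MvPolynomial.induction_on with
    | C c => exact IntermediateField.algebraMap_mem _ c
    | add a b ha hb => rw [map_add]; exact add_mem ha hb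
    | mul_X a i ha => rw [map_mul]; exact mul_mem ha (IntermediateField.subset_adjoin _ _ ⟨i, rfl⟩)
  exact div_mem (key a) (key b)

variable {k}

theorem ext_X {σ : Type v} {A : Type*} [Field A] [Algebra k A] {f g : InvFld.Fld σ k →ₐ[k] A}
    (h : ∀ i, f (InvFld.X i) = g (InvFld.X i)) : f = g := by
  suffices h2 : f.toRingHom = g.toRingHom from AlgHom.ext fun z => RingHom.congr_fun h2 z
  refine IsLocalization.ringHom_ext (nonZeroDivisors (MvPolynomial σ k)) ?_
  have : f.comp (IsScalarTower.toAlgHom k (MvPolynomial σ k) (InvFld.Fld σ k)) =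
      g.comp (IsScalarTower.toAlgHom k (MvPolynomial σ k) (InvFld.Fld σ k)) := algHom_ext h
  exact congrArg AlgHom.toRingHom this

theorem left_eq_one {σ : Type v} {φ : InvFld.Fld σ k ≃ₐ[k] InvFld.Fld σ k}
    (h : ∀ i, φ (InvFld.X i) = InvFld.X i) : φ = 1 := by
  have := ext_X (f := φ.toAlgHom) (g := AlgHom.id k _) h
  exact AlgEquiv.ext fun z => DFunLike.congr_fun this z

/-- Descent for two blocks of variables. -/
theorem exists_descent_blocks {ι : Type v} {G : Type w} [Group G] [Finite G] {m : ℕ}
    (L : Type*) [Field L] [Algebra k L] (x : ι → L) (y : Fin m → L)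
    (hind : AlgebraicIndependent k (Sum.elim y x))
    (hgen : IntermediateField.adjoin k (Set.range (Sum.elim y x)) = ⊤)
    (φ : G →* (L ≃ₐ[k] L))
    (hx : ∀ g i, φ g (x i) ∈ Submodule.span k (Set.range x))
    (hy : ∀ g j, φ g (y j) ∈ Submodule.span k (Set.range y))
    (hfaith : ∀ g, (∀ i, φ g (x i) = x i) → g = 1) :
    ∃ t : Fin m → L,
      AlgebraicIndependent ↥(IntermediateField.adjoin k (Set.range x) ⊓ IntermediateField.fixedField φ.range) t ∧
      IntermediateField.restrictScalars k
          (IntermediateField.adjoin ↥(IntermediateField.adjoin k (Set.range x) ⊓ IntermediateField.fixedField φ.range)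
            (Set.range t)) =
        IntermediateField.fixedField φ.range := by
  set K := IntermediateField.adjoin k (Set.range x)
  have hle : Submodule.span k (Set.range x) ≤ K.toSubalgebra.toSubmodule :=
    Submodule.span_le.2 (IntermediateField.subset_adjoin k (Set.range x))
  have hK : ∀ g, ∀ z ∈ K, φ g z ∈ K := by
    intro g z hz
    induction hz using IntermediateField.adjoin_induction with
    | mem z hz => obtain ⟨i, rfl⟩ := hz; exact hle (hx g i)
    | algebraMap c => rw [AlgEquiv.commutes]; exact IntermediateField.algebraMap_mem _ _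
    | add a b _ _ ha hb => rw [map_add]; exact add_mem ha hb
    | inv a _ ha => rw [map_inv₀]; exact inv_mem ha
    | mul a b _ _ ha hb => rw [map_mul]; exact mul_mem ha hb
  refine exists_descent φ K (fun g h => hfaith g fun i => h _ (IntermediateField.subset_adjoin k _ ⟨i, rfl⟩)) y
    (algebraicIndependent_over_adjoin hind) ?_ (fun g j => ?_) hK
  · rw [eq_top_iff]
    intro z _
    have hz : z ∈ IntermediateField.adjoin k (Set.range (Sum.elim y x)) := by rw [hgen]; trivial
    have hle' : IntermediateField.adjoin k (Set.range (Sum.elim y x)) ≤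
        IntermediateField.restrictScalars k (IntermediateField.adjoin K (Set.range y)) := by
      rw [IntermediateField.adjoin_le_iff]
      rintro _ ⟨j | i, rfl⟩
      · exact IntermediateField.subset_adjoin K (Set.range y) ⟨j, rfl⟩
      · exact IntermediateField.algebraMap_mem _ (⟨x i, IntermediateField.subset_adjoin k _ ⟨i, rfl⟩⟩ : K)
    exact hle' hz
  · exact Submodule.span_le_restrictScalars k K _ (hy g j)

end fld

end Groth.Agent.InvFld84
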