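import Groth.Agent.InvFld84.Linear

/-! Combining two linear actions; rational function fields over isomorphic fields. -/

set_option autoImplicit false

universe u v w

open MvPolynomial

namespace Groth.Agent.InvFld84

variable {k : Type u} [Field k]

theorem exists_endo {σ : Type v} (g : InvFld.Fld σ k →ₐ[k] InvFld.Fld σ k)
    (h : ∀ i, g (InvFld.X i) ∈ Submodule.span k (Set.range (InvFld.X : σ → InvFld.Fld σ k))) :
    ∃ ψ : MvPolynomial σ k →ₐ[k] MvPolynomial σ k,
      ∀ P, algebraMap (MvPolynomial σ k) (InvFld.Fld σ k) (ψ P) = g (algebraMap (MvPolynomial σ k) (InvFld.Fld σ k) P) := by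
  have hl : ∀ i, ∃ l : MvPolynomial σ k, algebraMap (MvPolynomial σ k) (InvFld.Fld σ k) l = g (InvFld.X i) := by
    intro i
    have h1 := h i
    rw [show Set.range (InvFld.X : σ → InvFld.Fld σ k) =
      (IsScalarTower.toAlgHom k (MvPolynomial σ k) (InvFld.Fld σ k)).toLinearMap '' Set.range (MvPolynomial.X : σ → MvPolynomial σ k) by
      rw [← Set.range_comp]; rfl, ← Submodule.map_span] at h1
    obtain ⟨l, -, hl⟩ := h1
    exact ⟨l, hl⟩
  choose l hl using hl
  refine ⟨MvPolynomial.aeval l, fun P => ?_⟩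
  have : (IsScalarTower.toAlgHom k (MvPolynomial σ k) (InvFld.Fld σ k)).comp (MvPolynomial.aeval l) =
      g.comp (IsScalarTower.toAlgHom k (MvPolynomial σ k) (InvFld.Fld σ k)) :=
    algHom_ext fun i => by simp [hl i]
  exact DFunLike.congr_fun this P

/-- The polynomial map equivariance. -/
theorem exists_polyRep {σ : Type v} {G : Type w} [Group G] (φ : G →* (InvFld.Fld σ k ≃ₐ[k] InvFld.Fld σ k))
    (h : ∀ g i, φ g (InvFld.X i) ∈ Submodule.span k (Set.range (InvFld.X : σ → InvFld.Fld σ k))) :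
    ∃ ψ : G → (MvPolynomial σ k →ₐ[k] MvPolynomial σ k),
      (∀ g P, algebraMap (MvPolynomial σ k) (InvFld.Fld σ k) (ψ g P) = φ g (algebraMap _ _ P)) ∧
      ψ 1 = AlgHom.id k _ ∧ ∀ g g', ψ (g * g') = (ψ g).comp (ψ g') := by
  choose ψ hψ using fun g => exists_endo (φ g).toAlgHom (h g)
  have hinj := IsFractionRing.injective (MvPolynomial σ k) (InvFld.Fld σ k)
  refine ⟨ψ, hψ, AlgHom.ext fun P => hinj ?_, fun g g' => AlgHom.ext fun P => hinj ?_⟩
  · rw [hψ, map_one]; rfl
  · rw [hψ, AlgHom.comp_apply, hψ, hψ, map_mul]; rfl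

/-- The embedding of a block of variables. -/
noncomputable def emb {σ τ : Type v} (f : σ → τ) (hf : Function.Injective f) : InvFld.Fld σ k →ₐ[k] InvFld.Fld τ k :=
  IsFractionRing.liftAlgHom (g := (IsScalarTower.toAlgHom k (MvPolynomial τ k) (InvFld.Fld τ k)).comp (rename f))
    ((IsFractionRing.injective _ _).comp (rename_injective f hf))

theorem emb_algebraMap {σ τ : Type v} (f : σ → τ) (hf : Function.Injective f) (P : MvPolynomial σ k) :
    emb f hf (algebraMap _ (InvFld.Fld σ k) P) = algebraMap _ (InvFld.Fld τ k) (rename f P) :=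
  IsLocalization.lift_eq _ _

theorem emb_X {σ τ : Type v} (f : σ → τ) (hf : Function.Injective f) (i : σ) :
    emb (k := k) f hf (InvFld.X i) = InvFld.X (f i) := by
  rw [InvFld.X, emb_algebraMap, rename_X]

theorem comm_of_X {σ : Type v} {A : Type*} [Field A] [Algebra k A] (g : A ≃ₐ[k] A)
    (g₁ : InvFld.Fld σ k ≃ₐ[k] InvFld.Fld σ k) (f : InvFld.Fld σ k →ₐ[k] A)
    (h : ∀ i, g (f (InvFld.X i)) = f (g₁ (InvFld.X i))) (z : InvFld.Fld σ k) : g (f z) = f (g₁ z) := by
  have := ext_X (f := g.toAlgHom.comp f) (g := f.comp g₁.toAlgHom) h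
  exact DFunLike.congr_fun this z

/-- The sum of two linear representations as automorphisms. -/
theorem exists_sum_rep {σ τ : Type v} {G : Type w} [Group G]
    (φ₁ : G →* (InvFld.Fld σ k ≃ₐ[k] InvFld.Fld σ k))
    (h₁ : ∀ g i, φ₁ g (InvFld.X i) ∈ Submodule.span k (Set.range (InvFld.X : σ → InvFld.Fld σ k)))
    (φ₂ : G →* (InvFld.Fld τ k ≃ₐ[k] InvFld.Fld τ k))
    (h₂ : ∀ g i, φ₂ g (InvFld.X i) ∈ Submodule.span k (Set.range (InvFld.X : τ → InvFld.Fld τ k))) :
    ∃ φ : G →* (InvFld.Fld (σ ⊕ τ) k ≃ₐ[k] InvFld.Fld (σ ⊕ τ) k),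
      (∀ g z, φ g (emb Sum.inl Sum.inl_injective z) = emb Sum.inl Sum.inl_injective (φ₁ g z)) ∧
      (∀ g z, φ g (emb Sum.inr Sum.inr_injective z) = emb Sum.inr Sum.inr_injective (φ₂ g z)) := by
  obtain ⟨ψ₁, hψ₁, h11, h1m⟩ := exists_polyRep φ₁ h₁
  obtain ⟨ψ₂, hψ₂, h21, h2m⟩ := exists_polyRep φ₂ h₂
  let Ψ : G → (MvPolynomial (σ ⊕ τ) k →ₐ[k] MvPolynomial (σ ⊕ τ) k) := fun g =>
    MvPolynomial.aeval (Sum.elim (fun i => rename Sum.inl (ψ₁ g (X i))) (fun j => rename Sum.inr (ψ₂ g (X j))))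
  have hl : ∀ g, (Ψ g).comp (rename Sum.inl) = (rename Sum.inl).comp (ψ₁ g) := fun g =>
    algHom_ext fun i => by simp [Ψ]
  have hr : ∀ g, (Ψ g).comp (rename Sum.inr) = (rename Sum.inr).comp (ψ₂ g) := fun g =>
    algHom_ext fun i => by simp [Ψ]
  have hl' : ∀ g P, Ψ g (rename Sum.inl P) = rename Sum.inl (ψ₁ g P) := fun g P => DFunLike.congr_fun (hl g) P
  have hr' : ∀ g P, Ψ g (rename Sum.inr P) = rename Sum.inr (ψ₂ g P) := fun g P => DFunLike.congr_fun (hr g) P
  have hone : Ψ 1 = AlgHom.id k _ := algHom_ext fun i => by rcases i with i | i <;> simp [Ψ, h11, h21]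
  have hmul : ∀ g g', Ψ (g * g') = (Ψ g).comp (Ψ g') := fun g g' => by
    refine algHom_ext fun i => ?_
    rcases i with i | i
    · rw [← rename_X (f := Sum.inl (β := τ)) (R := k), AlgHom.comp_apply, hl', hl', hl', h1m]; rfl
    · rw [← rename_X (f := Sum.inr (α := σ)) (R := k), AlgHom.comp_apply, hr', hr', hr', h2m]; rfl
  have hinv : ∀ g g' : G, g * g' = 1 → (Ψ g).comp (Ψ g') = AlgHom.id k _ := fun g g' h => by rw [← hmul, h, hone]
  let e : G →* (MvPolynomial (σ ⊕ τ) k ≃ₐ[k] MvPolynomial (σ ⊕ τ) k) :=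
    { toFun := fun g => AlgEquiv.ofAlgHom (Ψ g) (Ψ g⁻¹) (hinv _ _ (mul_inv_cancel g)) (hinv _ _ (inv_mul_cancel g))
      map_one' := AlgEquiv.ext fun P => DFunLike.congr_fun hone P
      map_mul' := fun g g' => AlgEquiv.ext fun P => DFunLike.congr_fun (hmul g g') P }
  let φ : G →* (InvFld.Fld (σ ⊕ τ) k ≃ₐ[k] InvFld.Fld (σ ⊕ τ) k) :=
    (IsFractionRing.fieldEquivOfAlgEquivHom k (InvFld.Fld (σ ⊕ τ) k)).comp e
  have hφ : ∀ g P, φ g (algebraMap _ _ P) = algebraMap (MvPolynomial (σ ⊕ τ) k) _ (Ψ g P) := fun g P =>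
    IsFractionRing.fieldEquivOfAlgEquiv_algebraMap k (InvFld.Fld (σ ⊕ τ) k) (InvFld.Fld (σ ⊕ τ) k) (e g) P
  refine ⟨φ, fun g z => ?_, fun g z => ?_⟩
  · refine comm_of_X (φ g) (φ₁ g) (emb Sum.inl Sum.inl_injective) (fun i => ?_) z
    rw [InvFld.X, emb_algebraMap, hφ, hl', ← hψ₁, emb_algebraMap]
  · refine comm_of_X (φ g) (φ₂ g) (emb Sum.inr Sum.inr_injective) (fun i => ?_) z
    rw [InvFld.X, emb_algebraMap, hφ, hr', ← hψ₂, emb_algebraMap]

/-- Rational function fields over isomorphic fields. -/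
noncomputable def fldCongr {σ : Type v} {F F' : Type w} [Field F] [Field F'] [Algebra k F] [Algebra k F']
    (e : F ≃ₐ[k] F') : InvFld.Fld σ F ≃ₐ[k] InvFld.Fld σ F' :=
  IsFractionRing.fieldEquivOfAlgEquiv k _ _ (MvPolynomial.mapAlgEquiv σ e)

/-- Invariants of a sum are purely transcendental over the invariants of a faithful summand. -/
theorem fixed_iso {σ υ : Type v} {G : Type w} [Group G] [Finite G] {m : ℕ}
    (φ₁ : G →* (InvFld.Fld σ k ≃ₐ[k] InvFld.Fld σ k))
    (φ : G →* (InvFld.Fld υ k ≃ₐ[k] InvFld.Fld υ k))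
    (f : σ → υ) (hf : Function.Injective f) (y : Fin m → υ) (he : Function.Bijective (Sum.elim y f))
    (hcomm : ∀ g z, φ g (emb f hf z) = emb f hf (φ₁ g z))
    (hx : ∀ g i, φ g (InvFld.X (f i)) ∈ Submodule.span k (Set.range fun i => (InvFld.X (f i) : InvFld.Fld υ k)))
    (hy : ∀ g j, φ g (InvFld.X (y j)) ∈ Submodule.span k (Set.range fun j => (InvFld.X (y j) : InvFld.Fld υ k)))
    (hinj : Function.Injective φ₁) :
    Nonempty (InvFld.Fld (Fin m) (IntermediateField.fixedField φ₁.range) ≃ₐ[k] IntermediateField.fixedField φ.range) := by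
  have hcomb : (Sum.elim (fun j => InvFld.X (y j)) (fun i => InvFld.X (f i)) : Fin m ⊕ σ → InvFld.Fld υ k) =
      InvFld.X ∘ Sum.elim y f := by funext i; rcases i with j | i <;> rfl
  obtain ⟨t, ht, hadj⟩ := exists_descent_blocks (InvFld.Fld υ k) (fun i => InvFld.X (f i)) (fun j => InvFld.X (y j))
    (by rw [hcomb]; exact (algebraicIndependent_X k υ).comp _ he.injective)
    (by rw [hcomb, Set.range_comp, he.surjective.range_eq, Set.image_univ]; exact adjoin_X k υ) φ hx hy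
    (fun g hg => hinj (by
      rw [map_one]
      refine left_eq_one fun i => (emb f hf).toRingHom.injective ?_
      show emb f hf (φ₁ g (InvFld.X i)) = emb f hf (InvFld.X i)
      rw [← hcomm, emb_X, hg i]))
  set F := IntermediateField.adjoin k (Set.range fun i => (InvFld.X (f i) : InvFld.Fld υ k)) ⊓
    IntermediateField.fixedField φ.range with hFdef
  have hmapF : (IntermediateField.fixedField φ₁.range).map (emb f hf) = F := by
    have htop : (⊤ : IntermediateField k (InvFld.Fld σ k)).map (emb f hf) =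
        IntermediateField.adjoin k (Set.range fun i => (InvFld.X (f i) : InvFld.Fld υ k)) := by
      rw [← adjoin_X k σ, IntermediateField.adjoin_map, ← Set.range_comp]
      congr 2
      funext i
      exact emb_X f hf i
    rw [hFdef, ← htop]
    ext z
    simp only [IntermediateField.mem_map, IntermediateField.mem_inf, IntermediateField.mem_fixedField_iff]
    constructor
    · rintro ⟨w, hw, rfl⟩
      refine ⟨⟨w, trivial, rfl⟩, ?_⟩
      rintro _ ⟨g, rfl⟩
      rw [hcomm, hw _ ⟨g, rfl⟩]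
    · rintro ⟨⟨w, -, rfl⟩, hw⟩
      refine ⟨w, ?_, rfl⟩
      rintro _ ⟨g, rfl⟩
      refine (emb f hf).toRingHom.injective ?_
      show emb f hf (φ₁ g w) = emb f hf w
      rw [← hcomm]; exact hw _ ⟨g, rfl⟩
  let eF : IntermediateField.fixedField φ₁.range ≃ₐ[k] F :=
    (IntermediateField.equivMap _ (emb f hf)).trans (IntermediateField.equivOfEq hmapF)
  exact ⟨(fldCongr eF).trans ((ht.aevalEquivField.restrictScalars k).trans (IntermediateField.equivOfEq hadj))⟩

/-- Two faithful linear representations have stably equivalent invariant fields. -/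
theorem stably_equiv {n m : ℕ} {G : Type w} [Group G] [Finite G]
    (φ₁ : G →* (InvFld.Fld (Fin n) k ≃ₐ[k] InvFld.Fld (Fin n) k)) (i₁ : Function.Injective φ₁)
    (h₁ : ∀ g i, φ₁ g (InvFld.X i) ∈ Submodule.span k (Set.range (InvFld.X : Fin n → InvFld.Fld (Fin n) k)))
    (φ₂ : G →* (InvFld.Fld (Fin m) k ≃ₐ[k] InvFld.Fld (Fin m) k)) (i₂ : Function.Injective φ₂)
    (h₂ : ∀ g i, φ₂ g (InvFld.X i) ∈ Submodule.span k (Set.range (InvFld.X : Fin m → InvFld.Fld (Fin m) k))) :
    Nonempty (InvFld.Fld (Fin m) (IntermediateField.fixedField φ₁.range) ≃ₐ[k]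
      InvFld.Fld (Fin n) (IntermediateField.fixedField φ₂.range)) := by
  obtain ⟨φ, hl, hr⟩ := exists_sum_rep φ₁ h₁ φ₂ h₂
  have hx : ∀ g i, φ g (InvFld.X (Sum.inl i)) ∈
      Submodule.span k (Set.range fun i => (InvFld.X (Sum.inl i) : InvFld.Fld (Fin n ⊕ Fin m) k)) := by
    intro g i
    rw [← emb_X Sum.inl Sum.inl_injective i, hl]
    have := Submodule.mem_map_of_mem (f := (emb (k := k) (Sum.inl : Fin n → Fin n ⊕ Fin m) Sum.inl_injective).toLinearMap) (h₁ g i)
    rw [Submodule.map_span, ← Set.range_comp] at this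
    rw [show (fun i => (InvFld.X (Sum.inl i) : InvFld.Fld (Fin n ⊕ Fin m) k)) =
      emb Sum.inl Sum.inl_injective ∘ InvFld.X from funext fun j => (emb_X _ _ j).symm]
    exact this
  have hy : ∀ g j, φ g (InvFld.X (Sum.inr j)) ∈
      Submodule.span k (Set.range fun j => (InvFld.X (Sum.inr j) : InvFld.Fld (Fin n ⊕ Fin m) k)) := by
    intro g i
    rw [← emb_X Sum.inr Sum.inr_injective i, hr]
    have := Submodule.mem_map_of_mem (f := (emb (k := k) (Sum.inr : Fin m → Fin n ⊕ Fin m) Sum.inr_injective).toLinearMap) (h₂ g i)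
    rw [Submodule.map_span, ← Set.range_comp] at this
    rw [show (fun j => (InvFld.X (Sum.inr j) : InvFld.Fld (Fin n ⊕ Fin m) k)) =
      emb Sum.inr Sum.inr_injective ∘ InvFld.X from funext fun j => (emb_X _ _ j).symm]
    exact this
  obtain ⟨eA⟩ := fixed_iso φ₁ φ Sum.inl Sum.inl_injective (Sum.inr : Fin m → Fin n ⊕ Fin m)
    (Equiv.sumComm (Fin m) (Fin n)).bijective hl hx hy i₁
  obtain ⟨eB⟩ := fixed_iso φ₂ φ Sum.inr Sum.inr_injective (Sum.inl : Fin n → Fin n ⊕ Fin m)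
    (by
      have : (Sum.elim Sum.inl Sum.inr : Fin n ⊕ Fin m → Fin n ⊕ Fin m) = id := by funext i; cases i <;> rfl
      rw [this]; exact Function.bijective_id) hr hy hx i₂
  exact ⟨eA.trans eB.symm⟩

end Groth.Agent.InvFld84
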