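import Groth.Agent.InvFld84.Rep

/-! The symmetric group permuting the variables. -/

set_option autoImplicit false

universe u v

open MvPolynomial

namespace Groth.Agent.InvFld84

variable (k : Type u) [Field k] (n : ℕ)

/-- Renaming as a homomorphism. -/
noncomputable def renameHom : Equiv.Perm (Fin n) →* (MvPolynomial (Fin n) k ≃ₐ[k] MvPolynomial (Fin n) k) where
  toFun s := renameEquiv k s
  map_one' := by ext1 P; simp [renameEquiv, Equiv.Perm.coe_one]
  map_mul' s t := by ext1 P; simp [renameEquiv, rename_rename, Equiv.Perm.coe_mul]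

/-- The permutation action on the field. -/
noncomputable def permHom : Equiv.Perm (Fin n) →* (InvFld.Fld (Fin n) k ≃ₐ[k] InvFld.Fld (Fin n) k) :=
  (IsFractionRing.fieldEquivOfAlgEquivHom k (InvFld.Fld (Fin n) k)).comp (renameHom k n)

theorem permHom_algebraMap (s : Equiv.Perm (Fin n)) (P : MvPolynomial (Fin n) k) :
    permHom k n s (algebraMap _ _ P) = algebraMap (MvPolynomial (Fin n) k) _ (rename s P) := by
  simp only [permHom, MonoidHom.comp_apply, IsFractionRing.fieldEquivOfAlgEquivHom_apply]
  rw [IsFractionRing.fieldEquivOfAlgEquiv_algebraMap]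
  rfl

theorem permHom_X (s : Equiv.Perm (Fin n)) (i : Fin n) :
    permHom k n s (InvFld.X i) = InvFld.X (s i) := by
  rw [InvFld.X, permHom_algebraMap, rename_X]

theorem permHom_injective : Function.Injective (permHom k n) := by
  intro s t h
  refine Equiv.ext fun i => ?_
  have := DFunLike.congr_fun h (InvFld.X i)
  rw [permHom_X, permHom_X] at this
  exact (algebraicIndependent_X k (Fin n)).injective this

/-- The elementary symmetric functions in the field. -/
noncomputable def esym (i : Fin n) : InvFld.Fld (Fin n) k :=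
  algebraMap (MvPolynomial (Fin n) k) _ (esymm (Fin n) k (i + 1))

theorem esym_indep : AlgebraicIndependent k (esym k n) := by
  have h0 : Function.Injective (esymmAlgHom (Fin n) k n) := esymmAlgHom_injective k (le_of_eq (Fintype.card_fin n).symm)
  have h1 : AlgebraicIndependent k (fun i : Fin n => esymm (Fin n) k (i + 1)) := by
    intro P Q h
    refine h0 (Subtype.ext ?_)
    rw [esymmAlgHom_apply, esymmAlgHom_apply]
    exact h
  exact h1.map' (f := IsScalarTower.toAlgHom k (MvPolynomial (Fin n) k) (InvFld.Fld (Fin n) k))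
    (IsFractionRing.injective _ _)

theorem fixedField_perm :
    IntermediateField.fixedField (permHom k n).range = IntermediateField.adjoin k (Set.range (esym k n)) := by
  have hinj := IsFractionRing.injective (MvPolynomial (Fin n) k) (InvFld.Fld (Fin n) k)
  have hsym : ∀ P : MvPolynomial (Fin n) k, P.IsSymmetric →
      algebraMap (MvPolynomial (Fin n) k) (InvFld.Fld (Fin n) k) P ∈ IntermediateField.adjoin k (Set.range (esym k n)) := by
    intro P hP
    obtain ⟨Q, hQ⟩ := esymmAlgHom_surjective (σ := Fin n) (n := n) k (le_of_eq (Fintype.card_fin n)) ⟨P, hP⟩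
    have hQ' := congrArg Subtype.val hQ
    rw [esymmAlgHom_apply] at hQ'
    simp only at hQ'
    rw [← hQ', ← IsScalarTower.toAlgHom_apply k, ← AlgHom.comp_apply, MvPolynomial.comp_aeval]
    show aeval (esym k n) Q ∈ _
    induction Q using MvPolynomial.induction_on generalizing P with
    | C c => rw [aeval_C]; exact IntermediateField.algebraMap_mem _ _
    | add a b ha hb =>
      rw [map_add]
      exact add_mem (ha _ ((esymmAlgHom (Fin n) k n a).2) rfl (by rw [esymmAlgHom_apply]))
        (hb _ ((esymmAlgHom (Fin n) k n b).2) rfl (by rw [esymmAlgHom_apply]))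
    | mul_X a i ha =>
      rw [map_mul, aeval_X]
      exact mul_mem (ha _ ((esymmAlgHom (Fin n) k n a).2) rfl (by rw [esymmAlgHom_apply]))
        (IntermediateField.subset_adjoin _ _ ⟨i, rfl⟩)
  apply le_antisymm
  · intro z hz
    rw [IntermediateField.mem_fixedField_iff] at hz
    obtain ⟨a, b, hb, rfl⟩ := IsFractionRing.div_surjective (MvPolynomial (Fin n) k) z
    classical
    have hb0 : b ≠ 0 := nonZeroDivisors.ne_zero hb
    let B : MvPolynomial (Fin n) k := ∏ s : Equiv.Perm (Fin n), rename s b
    let A : MvPolynomial (Fin n) k := a * ∏ s ∈ Finset.univ.erase (1 : Equiv.Perm (Fin n)), rename s b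
    have hB : B.IsSymmetric := fun t => by
      rw [map_prod]
      exact Fintype.prod_equiv (Equiv.mulLeft t) _ _ fun s => by rw [rename_rename]; rfl
    have hB0 : B ≠ 0 := Finset.prod_ne_zero_iff.2 fun s _ => by
      rw [ne_eq, map_eq_zero_iff _ (rename_injective _ s.injective)]; exact hb0
    set z := algebraMap (MvPolynomial (Fin n) k) (InvFld.Fld (Fin n) k) a /
      algebraMap (MvPolynomial (Fin n) k) (InvFld.Fld (Fin n) k) b with hz'
    have hAB : algebraMap _ (InvFld.Fld (Fin n) k) A = z * algebraMap _ (InvFld.Fld (Fin n) k) B := by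
      simp only [A, B]
      rw [← Finset.mul_prod_erase Finset.univ _ (Finset.mem_univ (1 : Equiv.Perm (Fin n))), map_mul, map_mul,
        hz', ← mul_assoc]
      congr 1
      rw [show rename (⇑(1 : Equiv.Perm (Fin n))) b = b by rw [Equiv.Perm.coe_one, rename_id]; rfl,
        div_mul_cancel₀ _ ((map_ne_zero_iff _ hinj).2 hb0)]
    have hA : A.IsSymmetric := fun t => hinj (by
      rw [← permHom_algebraMap, hAB, map_mul, hz _ ⟨t, rfl⟩, permHom_algebraMap, hB t])
    rw [show z = algebraMap _ (InvFld.Fld (Fin n) k) A / algebraMap _ (InvFld.Fld (Fin n) k) B by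
      rw [hAB, mul_div_cancel_right₀ _ ((map_ne_zero_iff _ hinj).2 hB0)]]
    exact div_mem (hsym A hA) (hsym B hB)
  · rw [IntermediateField.adjoin_le_iff]
    rintro _ ⟨i, rfl⟩
    rw [SetLike.mem_coe, IntermediateField.mem_fixedField_iff]
    rintro _ ⟨s, rfl⟩
    rw [esym, permHom_algebraMap, esymm_isSymmetric (Fin n) k (i + 1) s]

/-- Stacking two purely transcendental extensions. -/
theorem stack {E : Type*} [Field E] [Algebra k E] {a b : ℕ} {F : Type u} [Field F] [Algebra k F]
    (x : Fin a → F) (hx : AlgebraicIndependent k x) (hgen : IntermediateField.adjoin k (Set.range x) = ⊤)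
    (e : E ≃ₐ[k] InvFld.Fld (Fin b) F) :
    ∃ t : Fin (b + a) → E, AlgebraicIndependent k t ∧ IntermediateField.adjoin k (Set.range t) = ⊤ := by
  let T : Fin b ⊕ Fin a → InvFld.Fld (Fin b) F := Sum.elim InvFld.X (algebraMap F _ ∘ x)
  have hT : AlgebraicIndependent k T := hx.sumElim_comp (algebraicIndependent_X F (Fin b))
  have hTgen : IntermediateField.adjoin k (Set.range T) = ⊤ := by
    set K := IntermediateField.adjoin k (Set.range T)
    have hF : ∀ c : F, algebraMap F (InvFld.Fld (Fin b) F) c ∈ K := by
      intro c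
      have h2 : (IntermediateField.adjoin k (Set.range x)).map (IsScalarTower.toAlgHom k F (InvFld.Fld (Fin b) F)) ≤ K := by
        rw [IntermediateField.adjoin_map, IntermediateField.adjoin_le_iff]
        rintro _ ⟨_, ⟨i, rfl⟩, rfl⟩
        exact IntermediateField.subset_adjoin _ _ ⟨Sum.inr i, rfl⟩
      exact h2 ⟨c, by rw [SetLike.mem_coe, hgen]; trivial, rfl⟩
    have h3 : IntermediateField.adjoin F (Set.range (InvFld.X : Fin b → InvFld.Fld (Fin b) F)) ≤
        K.toSubfield.toIntermediateField hF := by
      rw [IntermediateField.adjoin_le_iff]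
      rintro _ ⟨i, rfl⟩
      exact IntermediateField.subset_adjoin k (Set.range T) ⟨Sum.inl i, rfl⟩
    rw [adjoin_X] at h3
    exact eq_top_iff.2 fun z _ => h3 trivial
  refine ⟨fun i => e.symm (T (finSumFinEquiv.symm i)),
    (hT.comp _ finSumFinEquiv.symm.injective).map' (f := e.symm.toAlgHom) e.symm.injective, ?_⟩
  have : Set.range (fun i => e.symm (T (finSumFinEquiv.symm i))) = e.symm.toAlgHom '' Set.range T := by
    rw [← Set.range_comp]
    exact finSumFinEquiv.symm.surjective.range_comp (e.symm ∘ T)
  rw [this, ← IntermediateField.adjoin_map, hTgen, ← AlgHom.fieldRange_eq_map]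
  exact AlgHom.fieldRange_eq_top.2 e.symm.surjective

end Groth.Agent.InvFld84

namespace Groth.Agent.InvFld84

theorem range_comp_mulEquiv {A B C : Type*} [Group A] [Group B] [Group C] (f : B →* C) (e : A ≃* B) :
    (f.comp e.toMonoidHom).range = f.range := by
  ext c
  exact ⟨fun ⟨a, ha⟩ => ⟨e a, ha⟩, fun ⟨b, hb⟩ => ⟨e.symm b, by simpa using hb⟩⟩

end Groth.Agent.InvFld84
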